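import Groth.Agent.Lib.MonoHom.Finite
import Groth.Agent.Lib.GrpSchField.Orbit
import Groth.Agent.Lib.GrpSchField.Open
import Groth.Agent.Lib.GrpSchField.Field
import Groth.Agent.Lib.GrpSchField.HomFlat
import Groth.Agent.Lib.EtSite.FpqcDescent
import Groth.Agent.Lib.DiagGrp.TrivOver

/-!
A monomorphic homomorphism of group schemes of finite type over a field is a closed immersion.
-/

universe u

open CategoryTheory CategoryTheory.Limits MonoidalCategory CartesianMonoidalCategory MonObj GrpObj
open AlgebraicGeometry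

namespace GrothLib.MonoHom

variable {K : Type u} [Field K] {G H : Over (Spec (CommRingCat.of K))} [GrpObj G] [GrpObj H]

/-- Left translation through a homomorphism. -/
noncomputable def homAction (u : H ⟶ G) [IsMonHom u] : AlgGrp.Action H G where
  act := (u ▷ G) ≫ μ[G]
  one_act := by
    rw [← comp_whiskerRight_assoc, IsMonHom.one_hom]
    exact MonObj.one_mul G
  mul_act := by
    apply GrothLib.GrpSchField.hom_ext_points₂
    intro T p g
    rw [← GrothLib.GrpSchField.lift_fst_snd_comp p]
    generalize p ≫ fst H H = a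
    generalize p ≫ snd H H = b
    simp only [lift_lift_associator_hom_assoc, lift_whiskerRight_assoc, lift_whiskerLeft_assoc,
      ← Hom.mul_def, MonObj.mul_comp, _root_.mul_assoc]

theorem homAction_orbitMap (u : H ⟶ G) [IsMonHom u] : (homAction u).orbitMap η[G] = u := by
  simp only [AlgGrp.Action.orbitMap, homAction, lift_whiskerRight_assoc, Category.id_comp,
    ← Hom.mul_def]
  rw [← Hom.one_def, _root_.mul_one]

theorem lift_homAction (u : H ⟶ G) [IsMonHom u] {T : Over (Spec (CommRingCat.of K))} (h : T ⟶ H)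
    (g : T ⟶ G) : lift h g ≫ (homAction u).act = (h ≫ u) * g := by
  simp only [homAction, lift_whiskerRight_assoc, ← Hom.mul_def]

theorem whisker_isPullback (u : H ⟶ G) [IsMonHom u] :
    IsPullback μ[H] (H ◁ u) u (homAction u).act := by
  have w : μ[H] ≫ u = (H ◁ u) ≫ (homAction u).act := by
    apply GrothLib.GrpSchField.hom_ext_points₂
    intro T a b
    rw [lift_whiskerLeft_assoc, lift_homAction, ← Category.assoc, ← Hom.mul_def, MonObj.mul_comp]
  refine IsPullback.of_isLimit' ⟨w⟩ (PullbackCone.isLimitAux _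
    (fun c => lift (c.snd ≫ fst H G) ((c.snd ≫ fst H G)⁻¹ * c.fst)) ?_ ?_ ?_)
  · intro c
    show lift _ _ ≫ μ[H] = _
    rw [← Hom.mul_def, mul_inv_cancel_left]
  · intro c
    show lift _ _ ≫ (H ◁ u) = _
    have e : c.snd ≫ (homAction u).act = ((c.snd ≫ fst H G) ≫ u) * (c.snd ≫ snd H G) := by
      rw [← lift_homAction, GrothLib.GrpSchField.lift_fst_snd_comp]
    rw [lift_whiskerLeft, MonObj.mul_comp, GrpObj.inv_comp, c.condition, e, inv_mul_cancel_left]
    exact GrothLib.GrpSchField.lift_fst_snd_comp c.snd
  · intro c m hm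
    have h1 : m ≫ μ[H] = c.fst := hm WalkingCospan.left
    have h2 : m ≫ (H ◁ u) = c.snd := hm WalkingCospan.right
    have key : ∀ {T : Over (Spec (CommRingCat.of K))} (m : T ⟶ H ⊗ H),
        m = lift ((m ≫ (H ◁ u)) ≫ fst H G) (((m ≫ (H ◁ u)) ≫ fst H G)⁻¹ * (m ≫ μ[H])) := by
      intro T m
      rw [← GrothLib.GrpSchField.lift_fst_snd_comp m]
      generalize m ≫ fst H H = a
      generalize m ≫ snd H H = b
      rw [lift_whiskerLeft, lift_fst, ← Hom.mul_def, inv_mul_cancel_left]
    refine (key m).trans ?_
    congr 1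
    · exact congrArg (· ≫ fst H G) h2
    · exact congrArg₂ (fun p q => (p ≫ fst H G)⁻¹ * q) h2 h1

/-- A quasi-finite homomorphism of group schemes of finite type over a field is finite. -/
theorem isFinite_left [LocallyOfFiniteType H.hom] [QuasiCompact H.hom]
    [LocallyOfFiniteType G.hom] (u : H ⟶ G) [IsMonHom u] [LocallyQuasiFinite u.left] : IsFinite u.left := by
  have : IsSeparated G.hom := GrothLib.GrpSchField.isSeparated G
  have : CompactSpace H.left := QuasiCompact.compactSpace_of_compactSpace H.hom
  have : IsLocallyNoetherian G.left := LocallyOfFiniteType.isLocallyNoetherian G.hom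
  have : LocallyOfFiniteType u.left := by
    have : LocallyOfFiniteType (u.left ≫ G.hom) := by rw [Over.w u]; infer_instance
    exact locallyOfFiniteType_of_comp u.left G.hom
  have : QuasiCompact u.left := by
    have : QuasiCompact (u.left ≫ G.hom) := by rw [Over.w u]; infer_instance
    exact QuasiCompact.of_comp u.left G.hom
  have : IsSeparated u.left := by
    have : IsSeparated (u.left ≫ G.hom) := by rw [Over.w u]; exact GrothLib.GrpSchField.isSeparated H
    exact IsSeparated.of_comp u.left G.hom
  obtain ⟨V, hV, -, hgen⟩ := exists_dense_open_isFinite u.left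
  have : QuasiCompact ((homAction u).orbitMap η[G]).left := by rw [homAction_orbitMap]; infer_instance
  have hclosed : IsClosed (Set.range u.left) := by
    have h := GrothLib.GrpSchField.isLocallyClosed_range_orbitMap (homAction u) η[G]
    rw [homAction_orbitMap] at h
    exact GrothLib.GrpSchField.isClosed_range_of_isLocallyClosed u h
  -- a point of the image in V
  obtain ⟨c, hc, -, hcV⟩ := hgen _ (subset_closure ⟨η[H].left (IsLocalRing.closedPoint K), rfl⟩)
  obtain ⟨_, hyV, g₀, rfl⟩ := mem_closure_iff.1 hc V V.2 hcV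
  -- spread out by translation
  let α := (homAction u).act.left
  have hαf : Flat α := GrothLib.GrpSchField.act_property @Flat (homAction u)
    (GrothLib.DiagGrp.flat_of_field _)
  have hαl : LocallyOfFiniteType α := GrothLib.GrpSchField.act_property @LocallyOfFiniteType (homAction u) ‹_›
  have hαp : LocallyOfFinitePresentation α := inferInstance
  have hαq : QuasiCompact α := GrothLib.GrpSchField.act_property @QuasiCompact (homAction u) ‹_›
  have hαo : UniversallyOpen α := inferInstance
  let A : (H ⊗ G).left.Opens := (snd H G).left ⁻¹ᵁ V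
  let W : G.left.Opens := ⟨α '' A, α.isOpenMap _ A.2⟩
  have hW : Set.range u.left ⊆ W := by
    rintro _ ⟨h, rfl⟩
    let ψ : H ⊗ H ⟶ H ⊗ G := lift (fst H H * (snd H H)⁻¹) (snd H H ≫ u)
    have h1 : ψ ≫ snd H G = snd H H ≫ u := lift_snd _ _
    have h2 : ψ ≫ (homAction u).act = fst H H ≫ u := by
      rw [lift_homAction, ← MonObj.mul_comp, inv_mul_cancel_right]
    obtain ⟨q, hq1, hq2⟩ := Scheme.Pullback.exists_preimage_pullback (f := H.hom) (g := H.hom) h g₀
      (Subsingleton.elim (α := Spec (CommRingCat.of K)) _ _)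
    refine ⟨ψ.left q, ?_, ?_⟩
    · show (snd H G).left (ψ.left q) ∈ V
      rw [← Scheme.Hom.comp_apply, ← Over.comp_left, h1, Over.comp_left, Scheme.Hom.comp_apply,
        show (snd H H).left q = g₀ from hq2]
      exact hyV
    · show α (ψ.left q) = _
      rw [← Scheme.Hom.comp_apply, ← Over.comp_left, h2, Over.comp_left, Scheme.Hom.comp_apply]
      exact congrArg u.left hq1
  -- finite over W
  have hfA : IsFinite ((H ◁ u).left ∣_ A) := by
    have sq := GrothLib.GrpSchField.whiskerLeft_snd_isPullback H u
    have h1 := (isPullback_morphismRestrict (H ◁ u).left A).paste_vert sq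
    rw [← morphismRestrict_ι (snd H G).left V] at h1
    have hr : Set.range (((H ◁ u).left ⁻¹ᵁ A).ι ≫ (snd H H).left) ⊆ Set.range (u.left ⁻¹ᵁ V).ι := by
      rw [Scheme.Opens.range_ι]
      rintro _ ⟨z, rfl⟩
      show u.left ((snd H H).left _) ∈ V
      rw [← Scheme.Hom.comp_apply, ← sq.w]
      exact z.2
    have hl := IsOpenImmersion.lift_fac (u.left ⁻¹ᵁ V).ι _ hr
    rw [← hl] at h1
    refine MorphismProperty.of_isPullback (IsPullback.of_bot h1 ?_ (isPullback_morphismRestrict u.left V)).flip hV
    rw [← cancel_mono V.ι, Category.assoc, Category.assoc, morphismRestrict_ι u.left V]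
    exact h1.w.trans (Category.assoc _ _ _)
  have hfW : IsFinite (u.left ∣_ W) := by
    have hAW : Set.range (A.ι ≫ α) ⊆ Set.range W.ι := by
      rw [Scheme.Opens.range_ι]
      rintro _ ⟨z, rfl⟩
      exact ⟨z.1, z.2, rfl⟩
    have hle : A ≤ α ⁻¹ᵁ W := fun z hz => ⟨z, hz, rfl⟩
    let q := α.resLE W A hle
    have hq : q ≫ W.ι = A.ι ≫ α := Scheme.Hom.resLE_comp_ι α hle
    have hqs : Surjective q := ⟨fun w => by
      obtain ⟨z, hz, hzw⟩ := w.2
      refine ⟨⟨z, hz⟩, Subtype.ext ?_⟩
      exact (congrArg (fun m => m (⟨z, hz⟩ : A.toScheme)) hq).trans hzw⟩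
    have hqf : Flat q := inferInstanceAs (Flat (α.resLE W A hle))
    have hqq : QuasiCompact q := by
      have : IsLocallyNoetherian (H ⊗ G).left := LocallyOfFiniteType.isLocallyNoetherian α
      have : QuasiCompact (q ≫ W.ι) := by rw [hq]; infer_instance
      exact QuasiCompact.of_comp q W.ι
    have sqm := (whisker_isPullback u).map (Over.forget _)
    have h1 := (isPullback_morphismRestrict (H ◁ u).left A).paste_vert sqm.flip
    have h1 : IsPullback ((H ◁ u).left ∣_ A) (((H ◁ u).left ⁻¹ᵁ A).ι ≫ μ[H].left) (A.ι ≫ α) u.left := h1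
    rw [← hq] at h1
    have hr : Set.range (((H ◁ u).left ⁻¹ᵁ A).ι ≫ μ[H].left) ⊆ Set.range (u.left ⁻¹ᵁ W).ι := by
      rw [Scheme.Opens.range_ι]
      rintro _ ⟨z, rfl⟩
      show u.left (μ[H].left _) ∈ W
      rw [← Scheme.Hom.comp_apply, ← Over.comp_left, (whisker_isPullback u).w, Over.comp_left,
        Scheme.Hom.comp_apply]
      exact ⟨_, z.2, rfl⟩
    have hl := IsOpenImmersion.lift_fac (u.left ⁻¹ᵁ W).ι _ hr
    rw [← hl] at h1
    have hsq := IsPullback.of_bot h1 (by
      rw [← cancel_mono W.ι, Category.assoc, Category.assoc, morphismRestrict_ι u.left W]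
      exact h1.w.trans (Category.assoc _ _ _)) (isPullback_morphismRestrict u.left W)
    exact MorphismProperty.of_isPullback_of_descendsAlong (P := @IsFinite) (Q := GrothLib.EtSite.fpqcCov)
      hsq ⟨⟨hqs, hqf⟩, hqq⟩ hfA
  have hfin : IsFinite u.left := by
    let O : G.left.Opens := ⟨(Set.range u.left)ᶜ, hclosed.isOpen_compl⟩
    refine IsZariskiLocalAtTarget.of_iSup_eq_top (P := @IsFinite)
      (fun b : Bool => bif b then W else O) ?_ ?_
    · refine eq_top_iff.2 fun x _ => TopologicalSpace.Opens.mem_iSup.2 ?_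
      by_cases hx : x ∈ Set.range u.left
      · exact ⟨true, hW hx⟩
      · exact ⟨false, hx⟩
    · intro b
      cases b
      · show IsFinite (u.left ∣_ O)
        have : IsEmpty ↥(u.left ⁻¹ᵁ O).toScheme := ⟨fun z => z.2 ⟨z.1, rfl⟩⟩
        infer_instance
      · exact hfW
  exact hfin

/-- A monomorphism which is a homomorphism of group schemes of finite type over a field is a closed
immersion. -/
theorem isClosedImmersion_left [LocallyOfFiniteType H.hom] [QuasiCompact H.hom]
    [LocallyOfFiniteType G.hom] (u : H ⟶ G) [IsMonHom u] [Mono u] : IsClosedImmersion u.left := by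
  have hm : Mono u.left := inferInstanceAs (Mono ((Over.forget _).map u))
  have : LocallyOfFiniteType u.left := by
    have : LocallyOfFiniteType (u.left ≫ G.hom) := by rw [Over.w u]; infer_instance
    exact locallyOfFiniteType_of_comp u.left G.hom
  have : LocallyQuasiFinite u.left :=
    LocallyQuasiFinite.of_injective fun a b h => u.left.injective h
  exact (IsClosedImmersion.iff_isFinite_and_mono _).2 ⟨isFinite_left u, hm⟩

end GrothLib.MonoHom
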