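import Groth.Agent.Lib.MonoHom.ClosedImmersion
import Groth.Agent.Lib.Chevalley.GroupQuot
import Groth.Agent.Lib.FlatFactor.Main
import Groth.Agent.Lib.FlatFactor.Orbit
import Groth.Agent.Lib.EtSite.FpqcDescent
import Groth.Agent.Lib.DiagGrp.Bihom

/-!
A group of finite type over a field with a homomorphism to an affine group with affine kernel is affine.
-/

universe u

open CategoryTheory CategoryTheory.Limits MonoidalCategory CartesianMonoidalCategory MonObj GrpObj
open AlgebraicGeometry

namespace GrothLib.MonoHom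

variable {k : Type u} [Field k]

/-- A homomorphism from a group of finite type factors through a faithfully flat one onto a closed
subgroup; stated when the kernel is affine: the source is then affine over an affine target. -/
theorem isAffine_of_kernel {G H K : Over (Spec (CommRingCat.of k))} [GrpObj G] [GrpObj H] [GrpObj K]
    [LocallyOfFiniteType H.hom] [QuasiCompact H.hom] [LocallyOfFiniteType G.hom] [IsAffine G.left]
    [IsAffine K.left] (ρ : H ⟶ G) [IsMonHom ρ] (i : K ⟶ H) [IsMonHom i] [Mono i]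
    (hK : ∀ (T : Over (Spec (CommRingCat.of k))) (g : T ⟶ H), g ≫ ρ = 1 ↔ ∃ z : T ⟶ K, z ≫ i = g) :
    IsAffine H.left := by
  haveI : IsLocallyNoetherian G.left := LocallyOfFiniteType.isLocallyNoetherian G.hom
  have hcrit : ∀ (T : Over (Spec (CommRingCat.of k))) (x x' : T ⟶ H),
      x ≫ ρ = x' ≫ ρ ↔ ∃ h : T ⟶ K, x' = x * (h ≫ i) := by
    intro T x x'
    constructor
    · intro h
      obtain ⟨z, hz⟩ := (hK T (x⁻¹ * x')).1 (by rw [MonObj.mul_comp, GrpObj.inv_comp, h, inv_mul_cancel])
      exact ⟨z, by rw [hz, mul_inv_cancel_left]⟩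
    · rintro ⟨h, rfl⟩
      rw [MonObj.mul_comp, (hK T (h ≫ i)).2 ⟨h, rfl⟩, _root_.mul_one]
  have hn : AlgGrp.IsNormalHom i := fun T g n => by
    obtain ⟨z, hz⟩ := (hK T (g * (n ≫ i) * g⁻¹)).1 (by
      rw [MonObj.mul_comp, MonObj.mul_comp, GrpObj.inv_comp, (hK T (n ≫ i)).2 ⟨n, rfl⟩, _root_.mul_one,
        mul_inv_cancel])
    exact ⟨z, hz.symm⟩
  have hsq : IsPullback (fst H K) ((H ◁ i) ≫ μ[H]) ρ ρ := by
    have w : fst H K ≫ ρ = ((H ◁ i) ≫ μ[H]) ≫ ρ := by
      apply GrothLib.GrpSchField.hom_ext_points₂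
      intro T g h
      rw [← Category.assoc, lift_fst, ← Category.assoc, lift_whiskerLeft_assoc, ← Hom.mul_def]
      exact (hcrit T g _).2 ⟨h, rfl⟩
    refine IsPullback.of_isLimit' ⟨w⟩ (PullbackCone.isLimitAux _
      (fun s => lift s.fst ((hcrit _ s.fst s.snd).1 s.condition).choose) (fun s => lift_fst _ _) ?_ ?_)
    · intro s
      show lift _ _ ≫ ((H ◁ i) ≫ μ[H]) = _
      rw [lift_whiskerLeft_assoc, ← Hom.mul_def]
      exact ((hcrit _ s.fst s.snd).1 s.condition).choose_spec.symm
    · intro s (m : s.pt ⟶ H ⊗ K) hm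
      have h1 : m ≫ fst H K = s.fst := hm WalkingCospan.left
      have h2 : m ≫ ((H ◁ i) ≫ μ[H]) = s.snd := hm WalkingCospan.right
      rw [← GrothLib.GrpSchField.lift_fst_snd_comp m, h1]
      congr 1
      rw [← cancel_mono i]
      have h3 := ((hcrit _ s.fst s.snd).1 s.condition).choose_spec
      rw [← GrothLib.GrpSchField.lift_fst_snd_comp m, lift_whiskerLeft_assoc, ← Hom.mul_def, h1,
        h3, mul_right_inj] at h2
      exact h2
  have sq := hsq.map (Over.forget _)
  haveI : Flat K.hom := GrothLib.DiagGrp.flat_of_field _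
  haveI : IsAffineHom K.hom := isAffineHom_of_isAffine _
  haveI : Flat (fst H K).left := inferInstanceAs (Flat (pullback.fst H.hom K.hom))
  haveI haff : IsAffineHom (fst H K).left :=
    MorphismProperty.pullback_fst (P := @IsAffineHom) H.hom K.hom ‹IsAffineHom K.hom›
  have e : sq.isoPullback.inv ≫ ((Over.forget _).map (fst H K)) = pullback.fst ρ.left ρ.left :=
    sq.isoPullback_inv_fst
  have hflat : Flat (pullback.fst ρ.left ρ.left) := by
    rw [← e]; exact MorphismProperty.comp_mem @Flat _ _ inferInstance ‹Flat (fst H K).left›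
  have haffp : IsAffineHom (pullback.fst ρ.left ρ.left) := by
    rw [← e]; exact MorphismProperty.comp_mem @IsAffineHom _ _ inferInstance haff
  haveI : LocallyOfFiniteType ρ.left := by
    have : LocallyOfFiniteType (ρ.left ≫ G.hom) := by rw [Over.w ρ]; infer_instance
    exact locallyOfFiniteType_of_comp ρ.left G.hom
  obtain ⟨Q₀, f', f'', hs, hf, hlfp, hm, hft, hw⟩ := GrothLib.FlatFactor.exists_factor ρ.left
  let Q : Over (Spec (CommRingCat.of k)) := Over.mk (f'' ≫ G.hom)
  let f : H ⟶ Q := Over.homMk f' (by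
    show f' ≫ f'' ≫ G.hom = H.hom
    rw [← Category.assoc, hw]; exact Over.w ρ)
  let m : Q ⟶ G := Over.homMk f'' rfl
  have hfm : f ≫ m = ρ := Over.OverMorphism.ext hw
  haveI : Mono m.left := hm
  haveI : Mono m := (Over.forget _).mono_of_mono_map ‹Mono m.left›
  haveI : Flat f.left := hf
  haveI : Surjective f.left := hs
  haveI : LocallyOfFinitePresentation f.left := hlfp
  have hcov : GrothLib.Chevalley.IsCover f := ⟨‹_›, ‹_›, ‹_›⟩
  obtain ⟨str, hstr⟩ := GrothLib.Chevalley.exists_grpObj_quotient i hn f hcov fun {Y} a b => by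
    rw [← hcrit, ← hfm, ← Category.assoc, ← Category.assoc, cancel_mono m]
  letI := str
  haveI := hstr
  haveI : Epi (f ⊗ₘ f) := GrothLib.Chevalley.epi_of_cover _ (GrothLib.Chevalley.cover_tensor hcov hcov)
  haveI : IsMonHom m := GrothLib.GrpSchField.isMonHom_of_mul m (by
    rw [← cancel_epi (f ⊗ₘ f), ← Category.assoc, ← IsMonHom.mul_hom, Category.assoc, hfm,
      IsMonHom.mul_hom, ← Category.assoc, MonoidalCategory.tensorHom_comp_tensorHom, hfm])
  haveI : CompactSpace H.left := QuasiCompact.compactSpace_of_compactSpace H.hom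
  haveI : CompactSpace Q.left := f.left.surjective.compactSpace f.left.continuous
  haveI : QuasiCompact Q.hom := (quasiCompact_iff_compactSpace _).mpr ‹_›
  haveI : LocallyOfFiniteType Q.hom := inferInstanceAs (LocallyOfFiniteType (f'' ≫ G.hom))
  haveI := GrothLib.MonoHom.isClosedImmersion_left m
  haveI : IsAffine Q.left := isAffine_of_isAffineHom m.left
  have hpf : IsAffineHom (pullback.fst f.left f.left) := by
    have h := GrothLib.FlatFactor.isPullback_cancel_mono (C := Scheme.{u}) m.left
      (f := f.left) (g := f.left) (by rw [← Over.comp_left, hfm]; rfl) (by rw [← Over.comp_left, hfm]; rfl) sq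
    have e' : h.isoPullback.inv ≫ ((Over.forget _).map (fst H K)) = pullback.fst f.left f.left :=
      h.isoPullback_inv_fst
    rw [← e']
    exact MorphismProperty.comp_mem @IsAffineHom _ _ inferInstance haff
  have : QuasiCompact f.left := by
    have : QuasiCompact (f.left ≫ Q.hom) := by rw [Over.w f]; infer_instance
    exact QuasiCompact.of_comp f.left Q.hom
  haveI : IsAffineHom f.left :=
    MorphismProperty.of_pullback_fst_of_descendsAlong (P := @IsAffineHom) (Q := GrothLib.EtSite.fpqcCov)
      ⟨⟨‹_›, ‹_›⟩, ‹_›⟩ hpf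
  exact isAffine_of_isAffineHom f.left

end GrothLib.MonoHom
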