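import Mathlib.AlgebraicGeometry.ZariskisMainTheorem
import Groth.Agent.Lib.LocNoeth.Scheme
import Groth.Agent.Lib.Japanese.IntegralSpec

/-!
A separated quasi-finite morphism is finite over an open subset of the target containing every point
which has no proper generization in the closure of its image.
-/

universe u

open CategoryTheory AlgebraicGeometry

namespace GrothLib.MonoHom

variable {X Y : Scheme.{u}}

theorem exists_open_isFinite (f : X ⟶ Y) [LocallyOfFiniteType f] [LocallyQuasiFinite f]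
    [IsSeparated f] [QuasiCompact f] :
    ∃ V : Y.Opens, IsFinite (f ∣_ V) ∧
      ∀ y : Y, (∀ y' ∈ closure (Set.range f), y' ⤳ y → y' = y) → y ∈ V := by
  let j := f.toNormalization
  let g := f.fromNormalization
  have hfg : j ≫ g = f := f.toNormalization_fromNormalization
  have hcl : IsClosed (g '' (Set.range j)ᶜ) :=
    g.isClosedMap _ j.isOpenEmbedding.isOpen_range.isClosed_compl
  have : QuasiCompact j := by
    have : QuasiCompact (j ≫ g) := by rw [hfg]; infer_instance
    exact QuasiCompact.of_comp j g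
  let V : Y.Opens := ⟨(g '' (Set.range j)ᶜ)ᶜ, hcl.isOpen_compl⟩
  refine ⟨V, ?_, fun y hy => ?_⟩
  · have hj : IsIso (j ∣_ (g ⁻¹ᵁ V)) := by
      have hs : Surjective (j ∣_ (g ⁻¹ᵁ V)) := by
        refine ⟨fun n => ?_⟩
        obtain ⟨x, hx⟩ : n.1 ∈ Set.range j := by
          by_contra h
          exact n.2 ⟨n.1, h, rfl⟩
        have hxV : j x ∈ g ⁻¹ᵁ V := hx ▸ n.2
        refine ⟨⟨x, hxV⟩, Subtype.ext (Eq.trans ?_ hx)⟩
        exact congrArg (fun m => m (⟨x, hxV⟩ : (j ⁻¹ᵁ g ⁻¹ᵁ V).toScheme)) (morphismRestrict_ι j (g ⁻¹ᵁ V))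
      exact (isIso_iff_isOpenImmersion_and_surjective _).mpr ⟨inferInstance, hs⟩
    have hl : LocallyOfFiniteType (f ∣_ V) := IsZariskiLocalAtTarget.restrict (P := @LocallyOfFiniteType) ‹_› V
    have hi : IsIntegralHom (f ∣_ V) := by
      have : IsIntegralHom (g ∣_ V) := IsZariskiLocalAtTarget.restrict (P := @IsIntegralHom) (inferInstanceAs (IsIntegralHom f.fromNormalization)) V
      have : IsIntegralHom (j ∣_ (g ⁻¹ᵁ V) ≫ g ∣_ V) := by
        rw [MorphismProperty.cancel_left_of_respectsIso @IsIntegralHom]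
        infer_instance
      rw [← morphismRestrict_comp] at this
      exact (congrArg (fun m => IsIntegralHom (m ∣_ V)) hfg).mp this
    exact (IsFinite.iff_isIntegralHom_and_locallyOfFiniteType _).mpr ⟨hi, hl⟩
  · rintro ⟨n, hn, rfl⟩
    obtain ⟨x, hx⟩ := GrothLib.LocNoeth.exists_specializes_of_mem_closure_range j
      (j.denseRange n)
    have hjx : g (j x) = f x := congrArg (fun m => m x) hfg
    have h1 : f x ⤳ g n := hjx ▸ hx.map g.continuous
    have h2 := hy _ (subset_closure ⟨x, rfl⟩) h1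
    exact hn ⟨x, GrothLib.Japanese.eq_of_specializes_of_isIntegralHom g hx (hjx.trans h2)⟩

/-- A point of a closed subset of a scheme has a generization which is maximal in the subset. -/
theorem exists_maximal_generization {S : Set Y} (hS : IsClosed S) {y : Y} (hy : y ∈ S) :
    ∃ c ∈ S, c ⤳ y ∧ ∀ y' ∈ S, y' ⤳ c → y' = c := by
  have : QuasiSober S := hS.isClosedEmbedding_subtypeVal.quasiSober
  obtain ⟨c, hc⟩ := QuasiSober.sober
    (isIrreducible_irreducibleComponent (x := (⟨y, hy⟩ : S))) isClosed_irreducibleComponent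
  refine ⟨c.1, c.2, (hc.specializes mem_irreducibleComponent).map continuous_subtype_val,
    fun y' hy' h => ?_⟩
  have h' : (⟨y', hy'⟩ : S) ⤳ c := (Topology.IsInducing.subtypeVal.specializes_iff).1 h
  have hle : irreducibleComponent (⟨y, hy⟩ : S) ⊆ closure {(⟨y', hy'⟩ : S)} := by
    rw [← hc.def]
    exact closure_minimal (Set.singleton_subset_iff.2 h'.mem_closure) isClosed_closure
  have heq := (irreducibleComponent_mem_irreducibleComponents (⟨y, hy⟩ : S)).2
    isIrreducible_singleton.closure hle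
  have h2 : c ⤳ (⟨y', hy'⟩ : S) := hc.specializes (heq (subset_closure rfl))
  exact (h.antisymm (h2.map continuous_subtype_val)).eq

/-- The open subset of `exists_open_isFinite` can be taken dense. -/
theorem exists_dense_open_isFinite (f : X ⟶ Y) [LocallyOfFiniteType f] [LocallyQuasiFinite f]
    [IsSeparated f] [QuasiCompact f] :
    ∃ V : Y.Opens, IsFinite (f ∣_ V) ∧ Dense (V : Set Y) ∧
      ∀ y ∈ closure (Set.range f), ∃ c ∈ closure (Set.range f), c ⤳ y ∧ c ∈ V := by
  obtain ⟨V, hV, hmax⟩ := exists_open_isFinite f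
  have hgen : ∀ y ∈ closure (Set.range f), ∃ c ∈ closure (Set.range f), c ⤳ y ∧ c ∈ V :=
    fun y hy => by
      obtain ⟨c, hc, hcy, hcmax⟩ := exists_maximal_generization isClosed_closure hy
      exact ⟨c, hc, hcy, hmax c hcmax⟩
  refine ⟨V, hV, dense_iff_inter_open.2 fun W hW ⟨y, hy⟩ => ?_, hgen⟩
  by_cases h : y ∈ closure (Set.range f)
  · obtain ⟨c, -, hcy, hcV⟩ := hgen y h
    exact ⟨c, hcy.mem_open hW hy, hcV⟩
  · exact ⟨y, hy, hmax y fun y' hy' hyy => absurd (hyy.mem_closed isClosed_closure hy') h⟩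

end GrothLib.MonoHom
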