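import Groth.Agent.Lib.MonoHom.ClosedImmersion
import Groth.Agent.Lib.GrpSchField.Pts

/-!
A homomorphism of groups of finite type over an algebraically closed field whose kernel has only the
unit as a rational point is finite.
-/

universe u

open CategoryTheory CategoryTheory.Limits MonoidalCategory CartesianMonoidalCategory MonObj GrpObj
open AlgebraicGeometry

namespace GrothLib.MonoHom

variable {k : Type u} [Field k] [IsAlgClosed k]

/-- A scheme of finite type over an algebraically closed field with one rational point has one point. -/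
theorem subsingleton_of_pts {X : Over (Spec (CommRingCat.of k))} [LocallyOfFiniteType X.hom]
    (h : ∀ a b : Over.mk (Spec.map (CommRingCat.ofHom (algebraMap k k))) ⟶ X, a = b) :
    Subsingleton X.left := by
  have : JacobsonSpace X.left := LocallyOfFiniteType.jacobsonSpace X.hom
  have hsub : (closedPoints X.left).Subsingleton := fun x hx y hy => by
    obtain ⟨a, ha⟩ := GrothLib.GrpSchField.exists_point_of_isClosed k (X := X) hx
    obtain ⟨b, hb⟩ := GrothLib.GrpSchField.exists_point_of_isClosed k (X := X) hy
    rw [← ha, ← hb, h a b]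
  have huniv : closedPoints X.left = Set.univ := by
    refine Set.eq_univ_of_forall fun x => by_contra fun hx => ?_
    have hcl : IsClosed (closedPoints X.left) := by
      rcases hsub.eq_empty_or_singleton with he | ⟨y, hy⟩
      · rw [he]; exact isClosed_empty
      · have : y ∈ closedPoints X.left := by rw [hy]; rfl
        rw [hy]; exact this
    obtain ⟨z, hz, hz'⟩ := nonempty_inter_closedPoints (Z := (closedPoints X.left)ᶜ) ⟨x, hx⟩
      hcl.isOpen_compl.isLocallyClosed
    exact hz hz'
  exact ⟨fun x y => hsub (huniv ▸ Set.mem_univ x) (huniv ▸ Set.mem_univ y)⟩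

variable {G H : Over (Spec (CommRingCat.of k))} [GrpObj G] [GrpObj H]

/-- A homomorphism with no nontrivial rational point in its kernel is finite. -/
theorem isFinite_of_pts [LocallyOfFiniteType H.hom] [QuasiCompact H.hom] [LocallyOfFiniteType G.hom]
    (u : H ⟶ G) [IsMonHom u]
    (h : ∀ a : Over.mk (Spec.map (CommRingCat.ofHom (algebraMap k k))) ⟶ H, a ≫ u = 1 → a = 1) :
    IsFinite u.left := by
  have hH : IsSeparated H.hom := GrothLib.GrpSchField.isSeparated H
  have hG : IsSeparated G.hom := GrothLib.GrpSchField.isSeparated G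
  have : IsClosedImmersion η[G].left := by
    have h : η[G].left ≫ G.hom = 𝟙 _ := Over.w η[G]
    have : IsClosedImmersion (η[G].left ≫ G.hom) := by rw [h]; infer_instance
    exact IsClosedImmersion.of_comp η[G].left G.hom
  let K : Over (Spec (CommRingCat.of k)) := Over.mk (pullback.fst u.left η[G].left ≫ H.hom)
  let i : K ⟶ H := Over.homMk (pullback.fst u.left η[G].left) rfl
  have : IsClosedImmersion (pullback.fst u.left η[G].left) := inferInstance
  have : LocallyOfFiniteType K.hom :=
    inferInstanceAs (LocallyOfFiniteType (pullback.fst u.left η[G].left ≫ H.hom))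
  have : QuasiCompact K.hom :=
    inferInstanceAs (QuasiCompact (pullback.fst u.left η[G].left ≫ H.hom))
  have hi : i ≫ u = 1 := by
    refine Over.OverMorphism.ext ?_
    rw [Hom.one_def, Over.comp_left, Over.comp_left]
    show pullback.fst u.left η[G].left ≫ u.left = K.hom ≫ η[G].left
    rw [pullback.condition]
    congr 1
    have e := congrArg (fun t => t ≫ G.hom) (pullback.condition (f := u.left) (g := η[G].left))
    simp only [Category.assoc, Over.w u] at e
    rw [show η[G].left ≫ G.hom = 𝟙 _ from Over.w η[G], Category.comp_id] at e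
    exact e.symm
  have : Subsingleton K.left := subsingleton_of_pts fun a b => by
    have : Mono i := (Over.forget _).mono_of_mono_map
      (inferInstanceAs (Mono (pullback.fst u.left η[G].left)))
    rw [← cancel_mono i, h (a ≫ i) (by rw [Category.assoc, hi, MonObj.comp_one]),
      h (b ≫ i) (by rw [Category.assoc, hi, MonObj.comp_one])]
  have : LocallyQuasiFinite K.hom :=
    LocallyQuasiFinite.of_finite_preimage_singleton _ fun _ => Set.subsingleton_of_subsingleton.finite
  have hq : LocallyQuasiFinite (fst H K).left := inferInstanceAs (LocallyQuasiFinite (pullback.fst H.hom K.hom))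
  have hqc : QuasiCompact (fst H K).left := inferInstanceAs (QuasiCompact (pullback.fst H.hom K.hom))
  have : LocallyOfFiniteType u.left := by
    have : LocallyOfFiniteType (u.left ≫ G.hom) := by rw [Over.w u]; infer_instance
    exact locallyOfFiniteType_of_comp u.left G.hom
  let Z : Over (Spec (CommRingCat.of k)) := Over.mk (pullback.fst u.left u.left ≫ H.hom)
  let a : Z ⟶ H := Over.homMk (pullback.fst u.left u.left) rfl
  let b : Z ⟶ H := Over.homMk (pullback.snd u.left u.left) (by
    show pullback.snd u.left u.left ≫ H.hom = pullback.fst u.left u.left ≫ H.hom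
    rw [← Over.w u, pullback.condition_assoc])
  have hab : (a⁻¹ * b) ≫ u = 1 := by
    rw [MonObj.mul_comp, GrpObj.inv_comp, show a ≫ u = b ≫ u from Over.OverMorphism.ext pullback.condition,
      inv_mul_cancel]
  have hl : (a⁻¹ * b).left ≫ u.left = Z.hom ≫ η[G].left := by
    rw [← Over.comp_left, hab, Hom.one_def, Over.comp_left]
    rfl
  let n : Z ⟶ K := Over.homMk (pullback.lift _ _ hl) (by
    show pullback.lift _ _ hl ≫ pullback.fst u.left η[G].left ≫ H.hom = Z.hom
    rw [pullback.lift_fst_assoc, Over.w (a⁻¹ * b)])
  have hn : n ≫ i = a⁻¹ * b := Over.OverMorphism.ext (pullback.lift_fst _ _ hl)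
  let ψ : Z ⟶ H ⊗ K := lift a n
  let m : H ⊗ K ⟶ H := fst H K * (snd H K ≫ i)
  have hψ : ψ ≫ m = b := by
    simp only [ψ, m, MonObj.comp_mul, lift_fst, lift_snd_assoc, hn, mul_inv_cancel_left]
  have : LocallyQuasiFinite u.left := LocallyQuasiFinite.of_finite_preimage_singleton _ fun y => by
    rcases (u.left ⁻¹' {y}).eq_empty_or_nonempty with he | ⟨x₀, hx₀⟩
    · rw [he]; exact Set.finite_empty
    · refine ((Scheme.Hom.finite_preimage_singleton (fst H K).left x₀).image m.left).subset fun x hx => ?_
      obtain ⟨z, hz₁, hz₂⟩ := Scheme.Pullback.exists_preimage_pullback (f := u.left) (g := u.left) x₀ x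
        ((Set.mem_singleton_iff.1 hx₀).trans (Set.mem_singleton_iff.1 hx).symm)
      refine ⟨ψ.left z, ?_, ?_⟩
      · show (fst H K).left (ψ.left z) = x₀
        rw [← Scheme.Hom.comp_apply, ← Over.comp_left, lift_fst]
        exact hz₁
      · rw [← Scheme.Hom.comp_apply, ← Over.comp_left, hψ]
        exact hz₂
  exact isFinite_left u

end GrothLib.MonoHom
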